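import Cfsg.Agent.H90.S2Fi23.Data

/-! Check (generated, owner: helper90). -/

set_option autoImplicit false
set_option maxRecDepth 1000000

namespace Cfsg.Agent.H90.S2Fi23

open Cfsg.Agent.CosetEnum Cfsg.Agent.H90.Sift Cfsg.Agent.H90.Sift2

theorem da5_0 : chunkB 15 32767 noGap (dscB appA5 8 0xff (tb mA5) 21245) mA5 4 0x1229c023f708411e8052fd 0 31671 = true := by decide +kernel

theorem da5_f0 : Chs 15 32767 noGap (dscB appA5 8 0xff (tb mA5) 21245) mA5 4 0 31671 :=
  (show Chs 15 32767 noGap (dscB appA5 8 0xff (tb mA5) 21245) mA5 _ 0 31671 from (.one da5_0 rfl)).cast rfl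

end Cfsg.Agent.H90.S2Fi23
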