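import Cfsg.Agent.H90.S2Fi23.Data

/-! Check (generated, owner: helper90). -/

set_option autoImplicit false
set_option maxRecDepth 1000000

namespace Cfsg.Agent.H90.S2Fi23

open Cfsg.Agent.CosetEnum Cfsg.Agent.H90.Sift Cfsg.Agent.H90.Sift2

theorem db5_0 : chunkB 12 4095 noGap (dscB appB5 12 0xfff (tb mB5) 532) mB5 40 0x131b0042da0018330012bf00102f0020640014be00127200211600302100288700100c0011de00200700326d00248800125f0013330021d60020060012f400310500715c00180700713300329c0012d805100d0011a500251b00273302302a00616600316c00243400a18c15189909300b235276000214 0 31671 = true := by decide +kernel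

theorem db5_f0 : Chs 12 4095 noGap (dscB appB5 12 0xfff (tb mB5) 532) mB5 40 0 31671 :=
  (show Chs 12 4095 noGap (dscB appB5 12 0xfff (tb mB5) 532) mB5 _ 0 31671 from (.one db5_0 rfl)).cast rfl

end Cfsg.Agent.H90.S2Fi23
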