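import Cfsg.Agent.H90.S2Fi23.Data

/-! Check (generated, owner: helper90). -/

set_option autoImplicit false
set_option maxRecDepth 1000000

namespace Cfsg.Agent.H90.S2Fi23

open Cfsg.Agent.CosetEnum Cfsg.Agent.H90.Sift Cfsg.Agent.H90.Sift2

theorem db6_0 : chunkB 14 16383 noGap (dscB appB6 4 0xf (tb mB6) 4506) mB6 3 0x4c5f39014119a 0 31671 = true := by decide +kernel

theorem db6_f0 : Chs 14 16383 noGap (dscB appB6 4 0xf (tb mB6) 4506) mB6 3 0 31671 :=
  (show Chs 14 16383 noGap (dscB appB6 4 0xf (tb mB6) 4506) mB6 _ 0 31671 from (.one db6_0 rfl)).cast rfl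

end Cfsg.Agent.H90.S2Fi23
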