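import Cfsg.Agent.H90.S2Fi23.Data

/-! Check (generated, owner: helper90). -/

set_option autoImplicit false
set_option maxRecDepth 1000000

namespace Cfsg.Agent.H90.S2Fi23

open Cfsg.Agent.CosetEnum Cfsg.Agent.H90.Sift Cfsg.Agent.H90.Sift2

theorem n0 : allR (newC P Q wy 4 4 1) 0 733 = true := by decide +kernel

theorem n1 : allR (newC P Q wy 4 4 1) 733 733 = true := by decide +kernel

theorem n2 : allR (newC P Q wy 4 4 1) 1466 733 = true := by decide +kernel

theorem n3 : allR (newC P Q wy 4 4 1) 2199 733 = true := by decide +kernel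

theorem n4 : allR (newC P Q wy 4 4 1) 2932 733 = true := by decide +kernel

theorem n5 : allR (newC P Q wy 4 4 1) 3665 733 = true := by decide +kernel

theorem nf0 : CovI (newC P Q wy 4 4 1) 0 4398 := (.app (.app (.one n0 rfl) (.app (.one n1 rfl) (.one n2 rfl))) (.app (.one n3 rfl) (.app (.one n4 rfl) (.one n5 rfl))))

end Cfsg.Agent.H90.S2Fi23
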