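import Cfsg.Agent.H90.S2Fi23.Data

/-! Check (generated, owner: helper90). -/

set_option autoImplicit false
set_option maxRecDepth 1000000

namespace Cfsg.Agent.H90.S2Fi23

open Cfsg.Agent.CosetEnum Cfsg.Agent.H90.Sift Cfsg.Agent.H90.Sift2

theorem n6 : allR (newC P Q wy 4 4 1) 4398 733 = true := by decide +kernel

theorem n7 : allR (newC P Q wy 4 4 1) 5131 733 = true := by decide +kernel

theorem n8 : allR (newC P Q wy 4 4 1) 5864 733 = true := by decide +kernel

theorem n9 : allR (newC P Q wy 4 4 1) 6597 733 = true := by decide +kernel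

theorem n10 : allR (newC P Q wy 4 4 1) 7330 733 = true := by decide +kernel

theorem n11 : allR (newC P Q wy 4 4 1) 8063 733 = true := by decide +kernel

theorem nf1 : CovI (newC P Q wy 4 4 1) 4398 8796 := (.app (.app (.one n6 rfl) (.app (.one n7 rfl) (.one n8 rfl))) (.app (.one n9 rfl) (.app (.one n10 rfl) (.one n11 rfl))))

end Cfsg.Agent.H90.S2Fi23
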