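import Cfsg.Agent.H90.S2Fi23.Data

/-! Check (generated, owner: helper90). -/

set_option autoImplicit false
set_option maxRecDepth 1000000

namespace Cfsg.Agent.H90.S2Fi23

open Cfsg.Agent.CosetEnum Cfsg.Agent.H90.Sift Cfsg.Agent.H90.Sift2

theorem n12 : allR (newC P Q wy 4 4 1) 8796 733 = true := by decide +kernel

theorem n13 : allR (newC P Q wy 4 4 1) 9529 733 = true := by decide +kernel

theorem n14 : allR (newC P Q wy 4 4 1) 10262 733 = true := by decide +kernel

theorem n15 : allR (newC P Q wy 4 4 1) 10995 733 = true := by decide +kernel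

theorem n16 : allR (newC P Q wy 4 4 1) 11728 733 = true := by decide +kernel

theorem n17 : allR (newC P Q wy 4 4 1) 12461 733 = true := by decide +kernel

theorem nf2 : CovI (newC P Q wy 4 4 1) 8796 13194 := (.app (.app (.one n12 rfl) (.app (.one n13 rfl) (.one n14 rfl))) (.app (.one n15 rfl) (.app (.one n16 rfl) (.one n17 rfl))))

end Cfsg.Agent.H90.S2Fi23
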