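import Cfsg.Agent.H90.S2Fi23.Data

/-! Check (generated, owner: helper90). -/

set_option autoImplicit false
set_option maxRecDepth 1000000

namespace Cfsg.Agent.H90.S2Fi23

open Cfsg.Agent.CosetEnum Cfsg.Agent.H90.Sift Cfsg.Agent.H90.Sift2

theorem n24 : allR (newC P Q wy 4 4 1) 17592 733 = true := by decide +kernel

theorem n25 : allR (newC P Q wy 4 4 1) 18325 733 = true := by decide +kernel

theorem n26 : allR (newC P Q wy 4 4 1) 19058 733 = true := by decide +kernel

theorem n27 : allR (newC P Q wy 4 4 1) 19791 733 = true := by decide +kernel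

theorem n28 : allR (newC P Q wy 4 4 1) 20524 733 = true := by decide +kernel

theorem n29 : allR (newC P Q wy 4 4 1) 21257 733 = true := by decide +kernel

theorem nf4 : CovI (newC P Q wy 4 4 1) 17592 21990 := (.app (.app (.one n24 rfl) (.app (.one n25 rfl) (.one n26 rfl))) (.app (.one n27 rfl) (.app (.one n28 rfl) (.one n29 rfl))))

end Cfsg.Agent.H90.S2Fi23
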