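import Cfsg.Agent.H90.S2Fi23.Data

/-! Check (generated, owner: helper90). -/

set_option autoImplicit false
set_option maxRecDepth 1000000

namespace Cfsg.Agent.H90.S2Fi23

open Cfsg.Agent.CosetEnum Cfsg.Agent.H90.Sift Cfsg.Agent.H90.Sift2

theorem n30 : allR (newC P Q wy 4 4 1) 21990 733 = true := by decide +kernel

theorem n31 : allR (newC P Q wy 4 4 1) 22723 733 = true := by decide +kernel

theorem n32 : allR (newC P Q wy 4 4 1) 23456 733 = true := by decide +kernel

theorem n33 : allR (newC P Q wy 4 4 1) 24189 733 = true := by decide +kernel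

theorem n34 : allR (newC P Q wy 4 4 1) 24922 733 = true := by decide +kernel

theorem n35 : allR (newC P Q wy 4 4 1) 25655 733 = true := by decide +kernel

theorem nf5 : CovI (newC P Q wy 4 4 1) 21990 26388 := (.app (.app (.one n30 rfl) (.app (.one n31 rfl) (.one n32 rfl))) (.app (.one n33 rfl) (.app (.one n34 rfl) (.one n35 rfl))))

end Cfsg.Agent.H90.S2Fi23
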