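import Cfsg.Agent.H90.S2Fi23.Data

/-! Check (generated, owner: helper90). -/

set_option autoImplicit false
set_option maxRecDepth 1000000

namespace Cfsg.Agent.H90.S2Fi23

open Cfsg.Agent.CosetEnum Cfsg.Agent.H90.Sift Cfsg.Agent.H90.Sift2

theorem n36 : allR (newC P Q wy 4 4 1) 26388 733 = true := by decide +kernel

theorem n37 : allR (newC P Q wy 4 4 1) 27121 733 = true := by decide +kernel

theorem n38 : allR (newC P Q wy 4 4 1) 27854 733 = true := by decide +kernel

theorem n39 : allR (newC P Q wy 4 4 1) 28587 733 = true := by decide +kernel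

theorem n40 : allR (newC P Q wy 4 4 1) 29320 733 = true := by decide +kernel

theorem n41 : allR (newC P Q wy 4 4 1) 30053 733 = true := by decide +kernel

theorem nf6 : CovI (newC P Q wy 4 4 1) 26388 30786 := (.app (.app (.one n36 rfl) (.app (.one n37 rfl) (.one n38 rfl))) (.app (.one n39 rfl) (.app (.one n40 rfl) (.one n41 rfl))))

end Cfsg.Agent.H90.S2Fi23
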