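import Cfsg.Agent.H90.S2Fi23.Data

/-! Check (generated, owner: helper90). -/

set_option autoImplicit false
set_option maxRecDepth 1000000

namespace Cfsg.Agent.H90.S2Fi23

open Cfsg.Agent.CosetEnum Cfsg.Agent.H90.Sift Cfsg.Agent.H90.Sift2

theorem n42 : allR (newC P Q wy 4 4 1) 30786 733 = true := by decide +kernel

theorem n43 : allR (newC P Q wy 4 4 1) 31519 152 = true := by decide +kernel

theorem nf7 : CovI (newC P Q wy 4 4 1) 30786 31671 := (.app (.one n42 rfl) (.one n43 rfl))

end Cfsg.Agent.H90.S2Fi23
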