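import Cfsg.Agent.H90.S2Fi23.Data
import Cfsg.Agent.H90.Sift2Main

/-! Check (generated, owner: helper90). -/

set_option autoImplicit false
set_option maxRecDepth 1000000

namespace Cfsg.Agent.H90.S2Fi23

open Cfsg.Agent.CosetEnum Cfsg.Agent.H90.Sift Cfsg.Agent.H90.Sift2

theorem small : smallB P bsB 23 4 10 11 0x4 0x3 5 0x1249 0x2492 0 R = true := by decide +kernel

theorem rel : relC P ru rv 4 4 1 bsA = true := by decide +kernel

theorem c1 : candA P R bsB true 1 2 0x3 0x4 5 11 gs v1 = true := by decide +kernel

theorem c2 : candA P R bsB false 0x1249 0x2492 0x3 0x4 e2 11 gs v2 = true := by decide +kernel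

theorem un : eqB (itr P 3 11) (fun b => b) bsB = true := by decide +kernel

theorem us : eqB (run P 0x4) (itr P 3 10) bsB = true := by decide +kernel

theorem gen : genB P Q lw bsA = true := by decide +kernel

theorem m0 : Nat.beq M0 (Nat.pred (Nat.pow 2 31671)) = true := by decide +kernel

theorem fxA1 : fixA rw (0 :: gA1) [14] = true := by decide +kernel

theorem bmA1 : tb mA1 256 = true := by decide +kernel

theorem fxA2 : fixA rw (0 :: gA2) [256, 14] = true := by decide +kernel

theorem bmA2 : tb mA2 29808 = true := by decide +kernel

theorem fxA3 : fixA rw (0 :: gA3) [29808, 256, 14] = true := by decide +kernel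

theorem bmA3 : tb mA3 9008 = true := by decide +kernel

theorem fxA4 : fixA rw (0 :: gA4) [9008, 29808, 256, 14] = true := by decide +kernel

theorem bmA4 : tb mA4 14435 = true := by decide +kernel

theorem fxA5 : fixA rw (0 :: gA5) [14435, 9008, 29808, 256, 14] = true := by decide +kernel

theorem bmA5 : tb mA5 25880 = true := by decide +kernel

theorem baA0 : Nat.beq (act P 1 14) 256 = true := by decide +kernel

theorem baA1 : Nat.beq (act P 1 256) 29808 = true := by decide +kernel

theorem baA2 : Nat.beq (act P 1 29808) 9008 = true := by decide +kernel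

theorem baA3 : Nat.beq (act P 1 9008) 14435 = true := by decide +kernel

theorem baA4 : Nat.beq (act P 1 14435) 25880 = true := by decide +kernel

theorem fxB1 : fixA rw (0 :: gB1) [686] = true := by decide +kernel

theorem bmB1 : tb mB1 29372 = true := by decide +kernel

theorem fxB2 : fixA rw (0 :: gB2) [29372, 686] = true := by decide +kernel

theorem bmB2 : tb mB2 30905 = true := by decide +kernel

theorem fxB3 : fixA rw (0 :: gB3) [30905, 29372, 686] = true := by decide +kernel

theorem bmB3 : tb mB3 10204 = true := by decide +kernel

theorem fxB4 : fixA rw (0 :: gB4) [10204, 30905, 29372, 686] = true := by decide +kernel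

theorem bmB4 : tb mB4 21575 = true := by decide +kernel

theorem fxB5 : fixA rw (0 :: gB5) [21575, 10204, 30905, 29372, 686] = true := by decide +kernel

theorem bmB5 : tb mB5 26548 = true := by decide +kernel

theorem fxB6 : fixA rw (0 :: gB6) [26548, 21575, 10204, 30905, 29372, 686] = true := by decide +kernel

theorem bmB6 : tb mB6 13728 = true := by decide +kernel

theorem fxB7 : fixA rw (0 :: gB7) [13728, 26548, 21575, 10204, 30905, 29372, 686] = true := by decide +kernel

theorem bmB7 : tb mB7 3369 = true := by decide +kernel

theorem baB0 : Nat.beq (act P 3 686) 29372 = true := by decide +kernel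

theorem baB1 : Nat.beq (act P 3 29372) 30905 = true := by decide +kernel

theorem baB2 : Nat.beq (act P 3 30905) 10204 = true := by decide +kernel

theorem baB3 : Nat.beq (act P 3 10204) 21575 = true := by decide +kernel

theorem baB4 : Nat.beq (act P 3 21575) 26548 = true := by decide +kernel

theorem baB5 : Nat.beq (act P 3 26548) 13728 = true := by decide +kernel

theorem baB6 : Nat.beq (act P 3 13728) 3369 = true := by decide +kernel


end Cfsg.Agent.H90.S2Fi23
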