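import Cfsg.Agent.H90.Sift2Main
import Cfsg.Agent.H90.S2Fi23.Small
import Cfsg.Agent.H90.S2Fi23.LA0_0
import Cfsg.Agent.H90.S2Fi23.LA0_1
import Cfsg.Agent.H90.S2Fi23.LA1_0
import Cfsg.Agent.H90.S2Fi23.LA2_0
import Cfsg.Agent.H90.S2Fi23.LA3_0
import Cfsg.Agent.H90.S2Fi23.LA4_0
import Cfsg.Agent.H90.S2Fi23.LA5_0
import Cfsg.Agent.H90.S2Fi23.LB0_0
import Cfsg.Agent.H90.S2Fi23.LB0_1
import Cfsg.Agent.H90.S2Fi23.LB1_0
import Cfsg.Agent.H90.S2Fi23.LB2_0
import Cfsg.Agent.H90.S2Fi23.LB3_0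
import Cfsg.Agent.H90.S2Fi23.LB4_0
import Cfsg.Agent.H90.S2Fi23.LB5_0
import Cfsg.Agent.H90.S2Fi23.LB6_0
import Cfsg.Agent.H90.S2Fi23.LB7_0
import Cfsg.Agent.H90.S2Fi23.WY0
import Cfsg.Agent.H90.S2Fi23.WU0
import Cfsg.Agent.H90.S2Fi23.DU0
import Cfsg.Agent.H90.S2Fi23.DV0
import Cfsg.Agent.H90.S2Fi23.SA0
import Cfsg.Agent.H90.S2Fi23.SB0
import Cfsg.Agent.H90.S2Fi23.N0
import Cfsg.Agent.H90.S2Fi23.N1
import Cfsg.Agent.H90.S2Fi23.N2
import Cfsg.Agent.H90.S2Fi23.N3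
import Cfsg.Agent.H90.S2Fi23.N4
import Cfsg.Agent.H90.S2Fi23.N5
import Cfsg.Agent.H90.S2Fi23.N6
import Cfsg.Agent.H90.S2Fi23.N7

/-! Assembly (generated, owner: helper90). -/

set_option autoImplicit false
set_option maxRecDepth 1000000

namespace Cfsg.Agent.H90.S2Fi23

open Cfsg.Agent.CosetEnum Cfsg.Agent.H90.Sift Cfsg.Agent.H90.Sift2

open Subgroup

theorem da0_all : Chs 1 1 noGap (dscB app0 4 0xf (fun _ => true) 0) M0 31671 0 31671 :=
  (show Chs 1 1 noGap (dscB app0 4 0xf (fun _ => true) 0) M0 _ 0 31671 from (.app da0_f0 da0_f1)).cast rfl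

theorem da1_all : Chs 11 2047 noGap (dscB appA1 20 0xfffff (tb mA1) 7) mA1 3510 0 31671 :=
  (show Chs 11 2047 noGap (dscB appA1 20 0xfffff (tb mA1) 7) mA1 _ 0 31671 from da1_f0).cast rfl

theorem da2_all : Chs 7 127 noGap (dscB appA2 28 0xfffffff (tb mA2) 2) mA2 2816 0 31671 :=
  (show Chs 7 127 noGap (dscB appA2 28 0xfffffff (tb mA2) 2) mA2 _ 0 31671 from da2_f0).cast rfl

theorem da3_all : Chs 8 255 noGap (dscB appA3 48 0xffffffffffff (tb mA3) 0) mA3 2592 0 31671 :=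
  (show Chs 8 255 noGap (dscB appA3 48 0xffffffffffff (tb mA3) 0) mA3 _ 0 31671 from da3_f0).cast rfl

theorem da4_all : Chs 8 255 noGap (dscB appA4 20 0xfffff (tb mA4) 1) mA4 1260 0 31671 :=
  (show Chs 8 255 noGap (dscB appA4 20 0xfffff (tb mA4) 1) mA4 _ 0 31671 from da4_f0).cast rfl

theorem da5_all : Chs 15 32767 noGap (dscB appA5 8 0xff (tb mA5) 21245) mA5 4 0 31671 :=
  (show Chs 15 32767 noGap (dscB appA5 8 0xff (tb mA5) 21245) mA5 _ 0 31671 from da5_f0).cast rfl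

theorem db0_all : Chs 1 1 noGap (dscB app0 4 0xf (fun _ => true) 0) M0 31671 0 31671 :=
  (show Chs 1 1 noGap (dscB app0 4 0xf (fun _ => true) 0) M0 _ 0 31671 from (.app db0_f0 db0_f1)).cast rfl

theorem db1_all : Chs 8 255 noGap (dscB appB1 20 0xfffff (tb mB1) 1) mB1 3510 0 31671 :=
  (show Chs 8 255 noGap (dscB appB1 20 0xfffff (tb mB1) 1) mB1 _ 0 31671 from db1_f0).cast rfl

theorem db2_all : Chs 9 511 noGap (dscB appB2 16 0xffff (tb mB2) 26) mB2 693 0 31671 :=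
  (show Chs 9 511 noGap (dscB appB2 16 0xffff (tb mB2) 26) mB2 _ 0 31671 from db2_f0).cast rfl

theorem db3_all : Chs 9 511 noGap (dscB appB3 16 0xffff (tb mB3) 0) mB3 512 0 31671 :=
  (show Chs 9 511 noGap (dscB appB3 16 0xffff (tb mB3) 0) mB3 _ 0 31671 from db3_f0).cast rfl

theorem db4_all : Chs 9 511 noGap (dscB appB4 24 0xffffff (tb mB4) 126) mB4 432 0 31671 :=
  (show Chs 9 511 noGap (dscB appB4 24 0xffffff (tb mB4) 126) mB4 _ 0 31671 from db4_f0).cast rfl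

theorem db5_all : Chs 12 4095 noGap (dscB appB5 12 0xfff (tb mB5) 532) mB5 40 0 31671 :=
  (show Chs 12 4095 noGap (dscB appB5 12 0xfff (tb mB5) 532) mB5 _ 0 31671 from db5_f0).cast rfl

theorem db6_all : Chs 14 16383 noGap (dscB appB6 4 0xf (tb mB6) 4506) mB6 3 0 31671 :=
  (show Chs 14 16383 noGap (dscB appB6 4 0xf (tb mB6) 4506) mB6 _ 0 31671 from db6_f0).cast rfl

theorem db7_all : Chs 14 16383 noGap (dscB appB7 4 0xf (tb mB7) 3369) mB7 2 0 31671 :=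
  (show Chs 14 16383 noGap (dscB appB7 4 0xf (tb mB7) 3369) mB7 _ 0 31671 from db7_f0).cast rfl

theorem wY_all : Chs 11 2047 (wGap (act P 1)) skipB MY 1377 0 31671 :=
  (show Chs 11 2047 (wGap (act P 1)) skipB MY _ 0 31671 from wY_f0).cast rfl

theorem wU_all : Chs 13 8191 (wGap (act P 3)) skipB MU 2881 0 31671 :=
  (show Chs 13 8191 (wGap (act P 3)) skipB MU _ 0 31671 from wU_f0).cast rfl

theorem dU_all : Chs 11 2047 noGap (dirB P 3 ru) MY 1377 0 31671 :=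
  (show Chs 11 2047 noGap (dirB P 3 ru) MY _ 0 31671 from dU_f0).cast rfl

theorem dV_all : Chs 13 8191 noGap (dirB P 5 rv) MU 2881 0 31671 :=
  (show Chs 13 8191 noGap (dirB P 5 rv) MU _ 0 31671 from dV_f0).cast rfl

theorem sA_all : Chs 11 2047 noGap (sftB (act P 1) 44 0xfffffffffff (run P) rw [0] [] LvA) MY 1377 0 31671 :=
  (show Chs 11 2047 noGap (sftB (act P 1) 44 0xfffffffffff (run P) rw [0] [] LvA) MY _ 0 31671 from sA_f0).cast rfl

theorem sB_all : Chs 13 8191 noGap (sftB (act P 4) 32 0xffffffff (run P) rw gw od LvB) MU 2881 0 31671 :=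
  (show Chs 13 8191 noGap (sftB (act P 4) 32 0xffffffff (run P) rw gw od LvB) MU _ 0 31671 from sB_f0).cast rfl

theorem ncov : CovI (newC P Q wy 4 4 1) 0 31671 := (.app (.app (.app nf0 nf1) (.app nf2 nf3)) (.app (.app nf4 nf5) (.app nf6 nf7)))

theorem m0_bit {x : ℕ} (hx : x < P.m) : M0.testBit x = true := by
  rw [show M0 = 2 ^ 31671 - 1 from Nat.eq_of_beq_eq_true m0, Nat.testBit_two_pow_sub_one]
  exact decide_eq_true hx

section

variable {G : Type*} [Group G] [MulAction G (Fin P.m)] {f : ℕ → G}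
  (hQ : ∀ d, d ≠ 0 → d ≤ 10 → Is P (act Q d) (f d))

include hQ

theorem ywy : Is P (act P 1) ((wy.map f).prod) ∧ Is P (act P 2) ((wy.map f).prod)⁻¹ :=
  stage1 hQ (by decide) ncov.sound

theorem mix_ok (d : ℕ) (h0 : d ≠ 0) (h1 : d ≤ 12) : Is P (mixA Q P 10 d) (mixE f 10 ((wy.map f).prod) d) :=
  mixA_is hQ (ywy hQ).1 (ywy hQ).2 d h0 h1

theorem app0_ok : AppOK P (⊤ : Subgroup G) [] app0 :=
  runF_ok (fun d h0 h1 => ⟨_, mem_top _, mix_ok hQ d h0 h1, fun c hc => by simp at hc⟩) 64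

theorem rw_ok : AppOK P (⊤ : Subgroup G) [] rw :=
  runF_ok (fun d h0 h1 => ⟨_, mem_top _, mix_ok hQ d h0 h1, fun c hc => by simp at hc⟩) 1000

theorem rw_is (w : ℕ) : Is P (rw w) (wordE (mixE f 10 ((wy.map f).prod)) 4 15 12 1000 w) :=
  wordE_is (mix_ok hQ) 1000 w

theorem levA0 : Lev P (⊤ : Subgroup G) [] 14 M0 31671 0 P.m :=
  lev_of (Gr := fun _ => True) (root := 0) (m0_bit (show 14 < P.m by show 14 < 31671; norm_num))
    (Chs.sound (fun j d h i h1 h2 => trivial) (fun j v k h => dscB_sound (app0_ok hQ) (fun x hx _ => m0_bit hx) h) da0_all)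

theorem appA1_ok : AppOK P (⊤ : Subgroup G) [14] appA1 := runG_ok (rw_ok hQ) fxA1 24

theorem levA1 : Lev P (⊤ : Subgroup G) [14] 256 mA1 3510 0 P.m :=
  lev_of (Gr := fun _ => True) (root := 7) (tb_eq bmA1)
    (Chs.sound (fun j d h i h1 h2 => trivial) (fun j v k h => dscB_sound (appA1_ok hQ) (fun x _ hx => tb_eq hx) h) da1_all)

theorem appA2_ok : AppOK P (⊤ : Subgroup G) [256, 14] appA2 := runG_ok (rw_ok hQ) fxA2 24

theorem levA2 : Lev P (⊤ : Subgroup G) [256, 14] 29808 mA2 2816 0 P.m :=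
  lev_of (Gr := fun _ => True) (root := 2) (tb_eq bmA2)
    (Chs.sound (fun j d h i h1 h2 => trivial) (fun j v k h => dscB_sound (appA2_ok hQ) (fun x _ hx => tb_eq hx) h) da2_all)

theorem appA3_ok : AppOK P (⊤ : Subgroup G) [29808, 256, 14] appA3 := runG_ok (rw_ok hQ) fxA3 24

theorem levA3 : Lev P (⊤ : Subgroup G) [29808, 256, 14] 9008 mA3 2592 0 P.m :=
  lev_of (Gr := fun _ => True) (root := 0) (tb_eq bmA3)
    (Chs.sound (fun j d h i h1 h2 => trivial) (fun j v k h => dscB_sound (appA3_ok hQ) (fun x _ hx => tb_eq hx) h) da3_all)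

theorem appA4_ok : AppOK P (⊤ : Subgroup G) [9008, 29808, 256, 14] appA4 := runG_ok (rw_ok hQ) fxA4 24

theorem levA4 : Lev P (⊤ : Subgroup G) [9008, 29808, 256, 14] 14435 mA4 1260 0 P.m :=
  lev_of (Gr := fun _ => True) (root := 1) (tb_eq bmA4)
    (Chs.sound (fun j d h i h1 h2 => trivial) (fun j v k h => dscB_sound (appA4_ok hQ) (fun x _ hx => tb_eq hx) h) da4_all)

theorem appA5_ok : AppOK P (⊤ : Subgroup G) [14435, 9008, 29808, 256, 14] appA5 := runG_ok (rw_ok hQ) fxA5 24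

theorem levA5 : Lev P (⊤ : Subgroup G) [14435, 9008, 29808, 256, 14] 25880 mA5 4 0 P.m :=
  lev_of (Gr := fun _ => True) (root := 21245) (tb_eq bmA5)
    (Chs.sound (fun j d h i h1 h2 => trivial) (fun j v k h => dscB_sound (appA5_ok hQ) (fun x _ hx => tb_eq hx) h) da5_all)

theorem chainA : ChP P (⊤ : Subgroup G) cA [] :=
  ⟨(show 14 < 31671 by norm_num), levA0 hQ, ⟨(show 256 < 31671 by norm_num), levA1 hQ, ⟨(show 29808 < 31671 by norm_num), levA2 hQ, ⟨(show 9008 < 31671 by norm_num), levA3 hQ, ⟨(show 14435 < 31671 by norm_num), levA4 hQ, ⟨(show 25880 < 31671 by norm_num), levA5 hQ, trivial⟩⟩⟩⟩⟩⟩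

theorem aokA : AOK G P lA [] :=
  ⟨app0_ok hQ, ⟨appA1_ok hQ, ⟨appA2_ok hQ, ⟨appA3_ok hQ, ⟨appA4_ok hQ, ⟨appA5_ok hQ, trivial⟩⟩⟩⟩⟩⟩

theorem levB0 : Lev P (⊤ : Subgroup G) [] 686 M0 31671 0 P.m :=
  lev_of (Gr := fun _ => True) (root := 0) (m0_bit (show 686 < P.m by show 686 < 31671; norm_num))
    (Chs.sound (fun j d h i h1 h2 => trivial) (fun j v k h => dscB_sound (app0_ok hQ) (fun x hx _ => m0_bit hx) h) db0_all)

theorem appB1_ok : AppOK P (⊤ : Subgroup G) [686] appB1 := runG_ok (rw_ok hQ) fxB1 24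

theorem levB1 : Lev P (⊤ : Subgroup G) [686] 29372 mB1 3510 0 P.m :=
  lev_of (Gr := fun _ => True) (root := 1) (tb_eq bmB1)
    (Chs.sound (fun j d h i h1 h2 => trivial) (fun j v k h => dscB_sound (appB1_ok hQ) (fun x _ hx => tb_eq hx) h) db1_all)

theorem appB2_ok : AppOK P (⊤ : Subgroup G) [29372, 686] appB2 := runG_ok (rw_ok hQ) fxB2 24

theorem levB2 : Lev P (⊤ : Subgroup G) [29372, 686] 30905 mB2 693 0 P.m :=
  lev_of (Gr := fun _ => True) (root := 26) (tb_eq bmB2)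
    (Chs.sound (fun j d h i h1 h2 => trivial) (fun j v k h => dscB_sound (appB2_ok hQ) (fun x _ hx => tb_eq hx) h) db2_all)

theorem appB3_ok : AppOK P (⊤ : Subgroup G) [30905, 29372, 686] appB3 := runG_ok (rw_ok hQ) fxB3 24

theorem levB3 : Lev P (⊤ : Subgroup G) [30905, 29372, 686] 10204 mB3 512 0 P.m :=
  lev_of (Gr := fun _ => True) (root := 0) (tb_eq bmB3)
    (Chs.sound (fun j d h i h1 h2 => trivial) (fun j v k h => dscB_sound (appB3_ok hQ) (fun x _ hx => tb_eq hx) h) db3_all)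

theorem appB4_ok : AppOK P (⊤ : Subgroup G) [10204, 30905, 29372, 686] appB4 := runG_ok (rw_ok hQ) fxB4 24

theorem levB4 : Lev P (⊤ : Subgroup G) [10204, 30905, 29372, 686] 21575 mB4 432 0 P.m :=
  lev_of (Gr := fun _ => True) (root := 126) (tb_eq bmB4)
    (Chs.sound (fun j d h i h1 h2 => trivial) (fun j v k h => dscB_sound (appB4_ok hQ) (fun x _ hx => tb_eq hx) h) db4_all)

theorem appB5_ok : AppOK P (⊤ : Subgroup G) [21575, 10204, 30905, 29372, 686] appB5 := runG_ok (rw_ok hQ) fxB5 24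

theorem levB5 : Lev P (⊤ : Subgroup G) [21575, 10204, 30905, 29372, 686] 26548 mB5 40 0 P.m :=
  lev_of (Gr := fun _ => True) (root := 532) (tb_eq bmB5)
    (Chs.sound (fun j d h i h1 h2 => trivial) (fun j v k h => dscB_sound (appB5_ok hQ) (fun x _ hx => tb_eq hx) h) db5_all)

theorem appB6_ok : AppOK P (⊤ : Subgroup G) [26548, 21575, 10204, 30905, 29372, 686] appB6 := runG_ok (rw_ok hQ) fxB6 24

theorem levB6 : Lev P (⊤ : Subgroup G) [26548, 21575, 10204, 30905, 29372, 686] 13728 mB6 3 0 P.m :=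
  lev_of (Gr := fun _ => True) (root := 4506) (tb_eq bmB6)
    (Chs.sound (fun j d h i h1 h2 => trivial) (fun j v k h => dscB_sound (appB6_ok hQ) (fun x _ hx => tb_eq hx) h) db6_all)

theorem appB7_ok : AppOK P (⊤ : Subgroup G) [13728, 26548, 21575, 10204, 30905, 29372, 686] appB7 := runG_ok (rw_ok hQ) fxB7 24

theorem levB7 : Lev P (⊤ : Subgroup G) [13728, 26548, 21575, 10204, 30905, 29372, 686] 3369 mB7 2 0 P.m :=
  lev_of (Gr := fun _ => True) (root := 3369) (tb_eq bmB7)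
    (Chs.sound (fun j d h i h1 h2 => trivial) (fun j v k h => dscB_sound (appB7_ok hQ) (fun x _ hx => tb_eq hx) h) db7_all)

theorem chainB : ChP P (⊤ : Subgroup G) cB [] :=
  ⟨(show 686 < 31671 by norm_num), levB0 hQ, ⟨(show 29372 < 31671 by norm_num), levB1 hQ, ⟨(show 30905 < 31671 by norm_num), levB2 hQ, ⟨(show 10204 < 31671 by norm_num), levB3 hQ, ⟨(show 21575 < 31671 by norm_num), levB4 hQ, ⟨(show 26548 < 31671 by norm_num), levB5 hQ, ⟨(show 13728 < 31671 by norm_num), levB6 hQ, ⟨(show 3369 < 31671 by norm_num), levB7 hQ, trivial⟩⟩⟩⟩⟩⟩⟩⟩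

theorem aokB : AOK G P lB [] :=
  ⟨app0_ok hQ, ⟨appB1_ok hQ, ⟨appB2_ok hQ, ⟨appB3_ok hQ, ⟨appB4_ok hQ, ⟨appB5_ok hQ, ⟨appB6_ok hQ, ⟨appB7_ok hQ, trivial⟩⟩⟩⟩⟩⟩⟩⟩

end

theorem basedA : BasedF (act P 1) lA :=
  ⟨Nat.eq_of_beq_eq_true baA0, ⟨Nat.eq_of_beq_eq_true baA1, ⟨Nat.eq_of_beq_eq_true baA2, ⟨Nat.eq_of_beq_eq_true baA3, ⟨Nat.eq_of_beq_eq_true baA4, trivial⟩⟩⟩⟩⟩

theorem ltA : ∀ t ∈ lA, t.1.1 < P.m := by
  intro t ht
  simp only [lA, List.mem_cons, List.not_mem_nil, or_false] at ht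
  show t.1.1 < 31671
  rcases ht with rfl | rfl | rfl | rfl | rfl | rfl <;> norm_num

theorem basedB : BasedF (act P 3) lB :=
  ⟨Nat.eq_of_beq_eq_true baB0, ⟨Nat.eq_of_beq_eq_true baB1, ⟨Nat.eq_of_beq_eq_true baB2, ⟨Nat.eq_of_beq_eq_true baB3, ⟨Nat.eq_of_beq_eq_true baB4, ⟨Nat.eq_of_beq_eq_true baB5, ⟨Nat.eq_of_beq_eq_true baB6, trivial⟩⟩⟩⟩⟩⟩⟩

theorem ltB : ∀ t ∈ lB, t.1.1 < P.m := by
  intro t ht
  simp only [lB, List.mem_cons, List.not_mem_nil, or_false] at ht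
  show t.1.1 < 31671
  rcases ht with rfl | rfl | rfl | rfl | rfl | rfl | rfl | rfl <;> norm_num

theorem hcov : ∀ j, isLet 10 j = true → j ∈ lw.map Prod.fst := by
  intro j hj
  rw [isLet_iff] at hj
  have h : ∀ j < 11, 1 ≤ j → j ∈ lw.map Prod.fst := by decide +kernel
  exact h j (by omega) hj.1

theorem hks : ∀ m < 23, m ≠ 0 → ∃ a : ℕ, (4 ^ a * m) % 23 = 1 ∨ (4 ^ a * m) % 23 = 5 := by
  have h : ∀ m < 23, m ≠ 0 → ∃ a < 23, (4 ^ a * m) % 23 = 1 ∨ (4 ^ a * m) % 23 = 5 := by decide +kernel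
  intro m h1 h2
  obtain ⟨a, _, h3⟩ := h m h1 h2
  exact ⟨a, h3⟩

/-- the new letters -/
def gg {G : Type*} [Group G] (f : ℕ → G) : ℕ → G :=
  gN ((wy.map f).prod) (wordE (mixE f 10 ((wy.map f).prod)) 4 15 12 1000 cu)
    (wordE (mixE f 10 ((wy.map f).prod)) 4 15 12 1000 cv)

section

variable {G : Type} [Group G] [Finite G] [MulAction G (Fin P.m)] {f : ℕ → G}
  (hQ : ∀ d, d ≠ 0 → d ≤ 10 → Is P (act Q d) (f d)) (hN : Nat.card G = 4089470473293004800)

include hQ hN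

theorem exA : ExP G P cA [] := (chainA hQ).exact' (by rw [hN]; decide +kernel)

theorem exB : ExP G P cB [] := (chainB hQ).exact' (by rw [hN]; decide +kernel)

theorem wYs : CK (fun _ => True) (NM P ((wy.map f).prod)) MY 1377 0 P.m :=
  Chs.sound (wGap_sound (ywy hQ).1) skipB_sound wY_all

theorem letters : LettersOK P (gg f) :=
  stage2 hQ (by decide) ncov.sound (exA hQ hN) (by decide) rel (wYs hQ hN)
    (Chs.sound (Gr := fun _ => True) (fun j d h i h1 h2 => trivial) (fun j v k h => dirB_sound j v k h) dU_all)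
    (fun h3 => Chs.sound (wGap_sound h3) skipB_sound wU_all)
    (Chs.sound (Gr := fun _ => True) (fun j d h i h1 h2 => trivial) (fun j v k h => dirB_sound j v k h) dV_all)

theorem solA : ∀ i < P.m, PtOK P (elt (gg f) 1) (elt (gg f) 1) {z | ∃ w ∈ [0], z = elt (gg f) w} 14 i := by
  have h := letters hQ hN
  have e1 : elt (gg f) 1 = gg f 1 := elt_digit (by norm_num) (by norm_num)
  have h1 : Is P (act P 1) (elt (gg f) 1) := by rw [e1]; exact is_act h.ra (by norm_num)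
  intro i hi
  have h2 := ptok_of (e := 1) (y0 := (wy.map f).prod) (by rw [pow_one, e1]; rfl) (wYs hQ hN)
    (Chs.sound (Gr := fun _ => True) (fun j d h i h1 h2 => trivial)
      (sftB_sound (s := ((14, M0, 31671), app0)) (l := [((256, mA1, 3510), appA1), ((29808, mA2, 2816), appA2), ((9008, mA3, 2592), appA3), ((14435, mA4, 1260), appA4), ((25880, mA5, 4), appA5)]) h1 h1 (is_run h.ra) (rw_is hQ) (exA hQ hN) (aokA hQ) ltA basedA) sA_all) i hi
  refine h2.mono2 ?_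
  rintro z (hz | ⟨w, hw, _⟩)
  · exact hz
  · exact absurd hw (by simp)

theorem powU : (elt (gg f) 0x4) ^ 10 = gg f 3 := by
  have h := letters hQ hN
  have d3 : elt (gg f) 3 = gg f 3 := elt_digit (by norm_num) (by norm_num)
  have e1 : gg f 3 ^ 11 = 1 := by
    have := eq_of_eqB (exB hQ hN) un (fun i => itr_sound h.ra 3 11 i) (y := 1) (fun i => by rw [inv_one, one_smul])
    rwa [d3] at this
  have e2 : elt (gg f) 0x4 = gg f 3 ^ 10 := by
    have := eq_of_eqB (exB hQ hN) us (fun i => run_sound h.ra _ i) (fun i => itr_sound h.ra 3 10 i)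
    rwa [d3] at this
  rw [e2]
  exact pow_inv_of (q := 9) e1 (by norm_num)


theorem solB0 : ∀ i < P.m, PtOK P (elt (gg f) 3) (elt (gg f) 0x4) ({z | ∃ w ∈ gw, z = elt (gg f) w} ∪
    {z | ∃ w ∈ od, z = wordE (mixE f 10 ((wy.map f).prod)) 4 15 12 1000 w}) 686 i := by
  have h := letters hQ hN
  have d3 : elt (gg f) 3 = gg f 3 := elt_digit (by norm_num) (by norm_num)
  have h1 : Is P (act P 3) (elt (gg f) 3) := by rw [d3]; exact is_act h.ra (by norm_num)
  have h2 : Is P (act P 4) (elt (gg f) 0x4) := by rw [elt_digit (by norm_num) (by norm_num)]; exact is_act h.ra (by norm_num)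
  have h3 : Is P (act P 3) (gg f 3) := is_act h.ra (by norm_num)
  exact ptok_of (powU hQ hN) (Chs.sound (wGap_sound h3) skipB_sound wU_all)
    (Chs.sound (Gr := fun _ => True) (fun j d h i h1 h2 => trivial)
      (sftB_sound (s := ((686, M0, 31671), app0)) (l := [((29372, mB1, 3510), appB1), ((30905, mB2, 693), appB2), ((10204, mB3, 512), appB3), ((21575, mB4, 432), appB4), ((26548, mB5, 40), appB5), ((13728, mB6, 3), appB6), ((3369, mB7, 2), appB7)]) h1 h2 (is_run h.ra) (rw_is hQ) (exB hQ hN) (aokB hQ) ltB basedB) sB_all)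


theorem solB : ∀ i < P.m, PtOK P (elt (gg f) 3) (elt (gg f) 0x4) {z | ∃ w ∈ gs.map fun t => t.1, z = elt (gg f) w} 686 i := by
  intro i hi
  refine (solB0 hQ hN i hi).mono2 ?_
  rintro z (hz | ⟨w, hw, _⟩)
  · exact hz
  · exact absurd hw (by simp [od])

theorem top (htop : Cl f 10 = ⊤) : closure ({gg f 1, gg f 3, gg f 5} : Set G) = ⊤ :=
  gen_top (letters hQ hN) (ws := lw) (f := f) (ng := 10) (fun t ht => hQ _ (by
    have h : ∀ t ∈ lw, t.1 ≠ 0 := by decide +kernel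
    exact h t ht) (by
    have h : ∀ t ∈ lw, t.1 ≤ 10 := by decide +kernel
    exact h t ht)) (exA hQ hN) gen hcov htop

theorem concl : Concl G (gg f 1) (gg f 3) (gg f 5) ((gg f 1) ^ 5) (elt (gg f) e2) (false = true) := by
  have : Fact (Nat.Prime 23) := ⟨by norm_num⟩
  exact sift_main (letters hQ hN) (p := 23) (by rw [hN]; decide +kernel) (exB hQ hN) (bA := 14) (bB := 686)
    (show 14 < 31671 by norm_num) (show 686 < 31671 by norm_num) (solA hQ hN) (solB hQ hN)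
    ⟨6, 14, by decide +kernel, by decide +kernel⟩ hks small (by norm_num) c1 c2


end

end Cfsg.Agent.H90.S2Fi23
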