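import Cfsg.Agent.H90.S2Fi23.Data

/-! Check (generated, owner: helper90). -/

set_option autoImplicit false
set_option maxRecDepth 1000000

namespace Cfsg.Agent.H90.S2Fi23

open Cfsg.Agent.CosetEnum Cfsg.Agent.H90.Sift Cfsg.Agent.H90.Sift2

theorem db3_0 : chunkB 9 511 noGap (dscB appB3 16 0xffff (tb mB3) 0) mB3 512 0x203000083800080400023600011680028440004180002110001028000810001812000404000100000085c00045c00021e00011100008a000044a00021d0001010000838000832000205000127800202800040400020c000100800082400081a00020d000102000380c00040400061300010c0000820000426000202000103000200400044e00040500010180009f000044400024e000126000100400042a000207000101000082c00042c00022f001707800080800043200021000010380008ac00043000021c00010d8000914000c4c0002530001290000820000446000214000107800081c000c02000207000105000080c00041a00020c000202000083c00045800023d0001040000a6c0004520006520002050000804000400000200000104800394400042400042c005218800084000242200022300021800058d400045a00020e000107000082400041e00020900010500008200004520002060001000000838002014000221000102000082800040400020e0003110002804003064000222000204800081c00601a00021900013d0000a7c00042c000223001400800081800042c000427000210000107c000cc8000428000524800189000040800025800022000009bc000488000c5c000202000118400080e0004290001130000a4c00059800024e0001030001000000958000426000104800103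400080400020100012d0000a9c00082800041400080100009980004360002270002068002a0800047600044000028280010a800083a000e670007ab800114c00061600040700022d800105c00081e0004ad00010680010ec000c38000246000243800082800042c00042e000124800100c00081c0004170003260000844000460000224000111000104c000842000403000106000138800092600020c00020d0000960000470000463000b1e800131000042a00023500018780038e800049800080b0007008001074001020000410000103000102c0008ae000ec200022400038b800082e000e3f0006050001098000516000405000102000100800119600022b000203800303800062200024d00020a000100000146200043d00012d800081800082a000a1b00062d000406000042400040200041680010100014a200101300040480010000008a2000531000209800104c001c14000c4400081380008bc0008b000040000050580030b4001868000250000509000105c000cb0001410000116800311800180c000432000212800299c00042a00040f00020a8000a0000087200081300010b000282c00153800041400026080013e8000cd60004100003030001888001c0c00042100021b000280c00084c000ea00002000001420001c0a000406000240000093c0010ec00022600043600019b8001892000a0b00051180040f8000834000a3800030a000313400101000042a0001230003b000008ae00029500051b800182000082000024400013e000197c0009dc00020400020600028cc00081a00060800010080033b8001c0800024800011280038e80006ae00042600080000043780008420004010001298003088001d5000a440000251800117c001810000619000b2000018bc00080800040f00013780040d8000c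0600025a0008560000a0400200800040e0002120004004001abc00061800024500040040021ce00041b000244000452400200200162c0007038001010000800000e0c00722b00042cc001d38000629000712000109c001000000205000503000107c00190400062500030180011d400099c00143300062d80010ac00081200048a00040080029640021a000106d00090f80018dc000c6c00102a0002078000b2400212c0004f600023b000581000106600181c0006040006144000a8c00022900080d0004038001036004e57000246800c848000dce0016080002148000ad80190e000047500061f0004090010566000a0f000a5080028380004b80006210003318000a5801909c000867000246000593c0050f6002c1e0016468002bdc000d1e00a50e00045980012b8003042000e3300032100608a800197e000c60000300002904c01d47000084b0816400005af80070a40012a8000a0f004a084000c40000a1300077600212a8000c7e0106a300140e00051640018d600145b00b2008005ba00710a400040b03580a001b0e82acdd801485e0001ae0c38a046dc52a00081d2716238021bb452ad90000000 0 31671 = true := by decide +kernel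

theorem db3_f0 : Chs 9 511 noGap (dscB appB3 16 0xffff (tb mB3) 0) mB3 512 0 31671 :=
  (show Chs 9 511 noGap (dscB appB3 16 0xffff (tb mB3) 0) mB3 _ 0 31671 from (.one db3_0 rfl)).cast rfl

end Cfsg.Agent.H90.S2Fi23
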