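import Cfsg.Agent.H90.S2Fi23.Data

/-! Check (generated, owner: helper90). -/

set_option autoImplicit false
set_option maxRecDepth 1000000

namespace Cfsg.Agent.H90.S2Fi23

open Cfsg.Agent.CosetEnum Cfsg.Agent.H90.Sift Cfsg.Agent.H90.Sift2

theorem n18 : allR (newC P Q wy 4 4 1) 13194 733 = true := by decide +kernel

theorem n19 : allR (newC P Q wy 4 4 1) 13927 733 = true := by decide +kernel

theorem n20 : allR (newC P Q wy 4 4 1) 14660 733 = true := by decide +kernel

theorem n21 : allR (newC P Q wy 4 4 1) 15393 733 = true := by decide +kernel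

theorem n22 : allR (newC P Q wy 4 4 1) 16126 733 = true := by decide +kernel

theorem n23 : allR (newC P Q wy 4 4 1) 16859 733 = true := by decide +kernel

theorem nf3 : CovI (newC P Q wy 4 4 1) 13194 17592 := (.app (.app (.one n18 rfl) (.app (.one n19 rfl) (.one n20 rfl))) (.app (.one n21 rfl) (.app (.one n22 rfl) (.one n23 rfl))))

end Cfsg.Agent.H90.S2Fi23
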