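import Cfsg.Agent.CosetEnum.Fi23.Main
import Cfsg.Agent.H90.S2Fi23.Chain

/-! The outer automorphism group of the Fischer group Fi23 (owner: helper90). -/

set_option autoImplicit false
set_option maxRecDepth 1000000

namespace Cfsg.Agent.H90.S2Fi23

open Cfsg.Agent.CosetEnum Cfsg.Agent.H90.Sift Cfsg.Agent.H90.Sift2

theorem out_fi23 : Nat.card (Cfsg.Out Spor.Fi23) = 1 := by
  have hcard := Fi23.fi23_card
  have hfin : Finite Spor.Fi23 := Nat.finite_of_card_ne_zero (by rw [hcard]; norm_num)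
  obtain ⟨A, letsk, cw, h1, h2, hA, h3k, h4, h5, h6, h7⟩ := (Fi23.L10 Fi23.gS_univ).ex
  letI A' : MulAction Spor.Fi23 (Fin P.m) := A
  have hQ : ∀ d, d ≠ 0 → d ≤ 10 → Is P (act Q d) (Fi23.gS d) := by
    have hm : ∀ d ≤ 10, d ≠ 0 → d ∈ Fi23T10.lets := by decide +kernel
    intro d h0 h1 i
    exact (hA d (hm d h1 h0) i).symm
  exact (concl hQ hcard).one (by decide) (top hQ hcard Fi23.gS_univ.top)

end Cfsg.Agent.H90.S2Fi23
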